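import Groth.Agent.MeroCurveLib.Basic
import Groth.Agent.MeroDepth.Basic
import Groth.Agent.AssPtX.Noeth

/-! Effective divisors on absolute curves. -/

set_option linter.style.haveILetI false
set_option linter.unusedSectionVars false
set_option backward.isDefEq.respectTransparency false
set_option backward.isDefEq.respectTransparency.types false

universe u

open CategoryTheory AlgebraicGeometry TopologicalSpace Opposite

namespace Groth.Agent.MeroCurveLib

variable {X : Scheme.{u}} [AlgebraicGeometry.IsNoetherian X]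
  (hC : ∀ x : X, IsClosed ({x} : Set X) → ringKrullDim (X.presheaf.stalk x) = 1)

/-- The class of a regular germ. -/
noncomputable def regClass {x : X} (b : Mero.regStalk X x) : Mero.Germ X x :=
  QuotientGroup.mk (IsLocalization.map_units (Mero.KStalk X x) b).unit

theorem regClass_ne_one {x : X} {b : Mero.regStalk X x} (hb : ¬ IsUnit (b : X.presheaf.stalk x)) :
    regClass b ≠ 1 := fun h => by
  obtain ⟨-, c, hc⟩ := (MeroDepth.mk_eq_one_iff x _).1 h
  refine hb (IsUnit.of_mul_eq_one c (Mero.algebraMap_KStalk_injective x ?_))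
  rw [map_mul, map_one, hc]
  exact IsUnit.mul_val_inv _

include hC in
/-- An effective divisor from regular germs at finitely many closed points. -/
theorem exists_effective (g : ∀ x : X, Mero.Germ X x) (hfin : {x : X | g x ≠ 1}.Finite)
    (hgen : ∀ x : X, ¬ IsClosed ({x} : Set X) → g x = 1) (heff : ∀ x : X, g x ≠ 1 → ∃ b, g x = regClass b) :
    ∃ D : Mero.Divisor X, D.1 = g ∧ Mero.IsEffective D := by
  refine ⟨⟨g, mem_divisorGroup_of hC g hfin hgen⟩, rfl, fun x => ?_⟩
  by_cases hx : g x = 1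
  · refine (MeroDepth.isEffectiveAt_iff (f := 1) (hx.trans (QuotientGroup.mk_one _).symm)).mpr ⟨1, map_one _⟩
  · exact heff x hx

include hC in
theorem exists_sub_effective (D : Mero.Divisor X) :
    ∃ D₁ D₂ : Mero.Divisor X, Mero.IsEffective D₁ ∧ Mero.IsEffective D₂ ∧ D = D₁ * D₂⁻¹ ∧
      Mero.supp D₁ ⊆ Mero.supp D ∧ Mero.supp D₂ ⊆ Mero.supp D := by
  classical
  obtain ⟨hfin, hgen⟩ := finite_of_mem_divisorGroup hC D.1 D.2
  have hrep : ∀ x : X, ∃ b : Mero.regStalk X x, ∃ q : (Mero.KStalk X x)ˣ, D.1 x = QuotientGroup.mk q ∧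
      MeroDepth.Reg x ((q : Mero.KStalk X x) * algebraMap (X.presheaf.stalk x) _ (b : X.presheaf.stalk x)) := by
    intro x
    obtain ⟨q, hq⟩ := QuotientGroup.mk_surjective (D.1 x)
    obtain ⟨⟨a, b⟩, hab⟩ := IsLocalization.surj (Mero.regStalk X x) (q : Mero.KStalk X x)
    exact ⟨b, q, hq.symm, a, hab.symm⟩
  choose b q hq hb using hrep
  let g : ∀ x : X, Mero.Germ X x := fun x => if D.1 x = 1 then 1 else regClass (b x)
  have hsub : ∀ x, g x ≠ 1 → D.1 x ≠ 1 := fun x hx h => hx (if_pos h)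
  obtain ⟨D₂, hD₂, heff⟩ := exists_effective hC g (hfin.subset hsub)
    (fun x hx => if_pos (hgen x hx)) (fun x hx => ⟨b x, if_neg (hsub x hx)⟩)
  have h2 : ∀ x, D₂.1 x = g x := fun x => congrFun hD₂ x
  have h1 : ∀ x, (D * D₂).1 x = D.1 x * g x := fun x => by rw [Subgroup.coe_mul, Pi.mul_apply, h2]
  refine ⟨D * D₂, D₂, fun x => ?_, heff, by rw [mul_inv_cancel_right], fun x hx h => hx ?_,
    fun x hx h => hx ?_⟩
  · by_cases hx : D.1 x = 1
    · refine (MeroDepth.isEffectiveAt_iff (f := 1) ?_).mpr ⟨1, map_one _⟩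
      rw [h1, hx]
      exact (_root_.one_mul (g x)).trans ((if_pos hx).trans (QuotientGroup.mk_one _).symm)
    · refine (MeroDepth.isEffectiveAt_iff (f := q x * (IsLocalization.map_units (Mero.KStalk X x) (b x)).unit) ?_).mpr ?_
      · rw [h1, QuotientGroup.mk_mul, ← hq x]
        exact congrArg (D.1 x * ·) (if_neg hx)
      · rw [Units.val_mul, IsUnit.unit_spec]; exact hb x
  · rw [h1, h]; exact (_root_.one_mul (g x)).trans (if_pos h)
  · rw [h2]; exact if_pos h

include hC in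
theorem exists_effective_meeting (hpt : ∀ x : X, ¬ IsOpen ({x} : Set X)) (U : X.Opens) (hU : Dense (U : Set X)) :
    ∃ D : Mero.Divisor X, Mero.IsEffective D ∧ Mero.supp D ⊆ (U : Set X) ∧
      ∀ Z ∈ irreducibleComponents (X : Type u), (Mero.supp D ∩ Z).Nonempty := by
  classical
  have hpick : ∀ Z ∈ irreducibleComponents (X : Type u), ∃ x : X, x ∈ Z ∧ x ∈ U ∧ IsClosed ({x} : Set X) ∧
      ∃ b : Mero.regStalk X x, ¬ IsUnit (b : X.presheaf.stalk x) := by
    intro Z hZ
    obtain ⟨O, hO, hOne, hOZ⟩ := NoetherianSpace.exists_isOpen_nonempty_subset_irreducibleComponent Z hZ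
    let η := hZ.1.genericPoint
    have hη : IsGenericPoint η Z := by
      have := hZ.1.isGenericPoint_genericPoint_closure
      rwa [(isClosed_of_mem_irreducibleComponents Z hZ).closure_eq] at this
    obtain ⟨w, hwO, hwU⟩ := hU.inter_open_nonempty O hO hOne
    have hηOU : η ∈ O ∩ (U : Set X) := (hη.specializes (hOZ hwO)).mem_open (hO.inter U.2) ⟨hwO, hwU⟩
    have hηnc : ¬ IsClosed ({η} : Set X) := fun hc => by
      have hZs : Z = {η} := by rw [← hη.def, hc.closure_eq]
      have : O = {η} := (Set.Nonempty.subset_singleton_iff hOne).1 (hZs ▸ hOZ)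
      exact hpt η (this ▸ hO)
    obtain ⟨_, ⟨V, hV, rfl⟩, hηV, hVOU⟩ :=
      X.isBasis_affineOpens.exists_subset_of_mem_open hηOU (hO.inter U.2)
    replace hηV : η ∈ V := hηV
    haveI : IsNoetherianRing Γ(X, V) := IsLocallyNoetherian.component_noetherian ⟨V, hV⟩
    let S : Set X := hV.fromSpec '' {P | P.asIdeal ∈ associatedPrimes Γ(X, V) Γ(X, V) ∧ IsClosed ({hV.fromSpec P} : Set X)}
    have hS : S.Finite := Set.Finite.image _ (((associatedPrimes.finite Γ(X, V) Γ(X, V)).preimage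
      (f := fun P : PrimeSpectrum Γ(X, V) => P.asIdeal) (fun P _ Q _ h => PrimeSpectrum.ext h)).subset fun P hP => hP.1)
    have hSc : IsClosed S := (Set.biUnion_of_singleton S) ▸ hS.isClosed_biUnion (by rintro _ ⟨P, hP, rfl⟩; exact hP.2)
    have hηS : η ∉ S := by
      rintro ⟨P, hP, he⟩
      exact hηnc (he ▸ hP.2)
    obtain ⟨z, ⟨hzV, hzS⟩, hzη⟩ : ∃ z, z ∈ (V : Set X) \ S ∧ z ≠ η := by
      by_contra hne
      push Not at hne
      have : (V : Set X) \ S = {η} := Set.eq_singleton_iff_unique_mem.2 ⟨⟨hηV, hηS⟩, hne⟩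
      exact hpt η (this ▸ V.2.sdiff hSc)
    have hzZ : z ∈ Z := hOZ (hVOU hzV).1
    have hzc : IsClosed ({z} : Set X) := by_contra fun hc => hzη (eq_of_specializes hC hc (hη.specializes hzZ)).symm
    let p := hV.primeIdealOf ⟨z, hzV⟩
    have hpm : p.asIdeal.IsMaximal := by
      rw [← PrimeSpectrum.isClosed_singleton_iff_isMaximal]
      have he : ({p} : Set (PrimeSpectrum Γ(X, V))) = hV.fromSpec ⁻¹' {z} := by
        ext P
        rw [Set.mem_singleton_iff, Set.mem_preimage, Set.mem_singleton_iff]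
        exact ⟨fun h => h ▸ hV.fromSpec_primeIdealOf ⟨z, hzV⟩,
          fun h => hV.fromSpec.isOpenEmbedding.injective (h.trans (hV.fromSpec_primeIdealOf ⟨z, hzV⟩).symm)⟩
      rw [he]
      exact hzc.preimage hV.fromSpec.continuous
    have hpass : p.asIdeal ∉ associatedPrimes Γ(X, V) Γ(X, V) := fun h =>
      hzS ⟨p, ⟨h, by rw [hV.fromSpec_primeIdealOf]; exact hzc⟩, hV.fromSpec_primeIdealOf _⟩
    obtain ⟨f, hfp, hfreg⟩ : ∃ f ∈ p.asIdeal, f ∈ nonZeroDivisors Γ(X, V) := by
      by_contra hne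
      push Not at hne
      have hfin := associatedPrimes.finite Γ(X, V) Γ(X, V)
      have hsub : (p.asIdeal : Set Γ(X, V)) ⊆ ⋃ q ∈ (hfin.toFinset : Set (Ideal Γ(X, V))), (q : Set Γ(X, V)) := by
        rw [Set.Finite.coe_toFinset, biUnion_associatedPrimes_eq_compl_nonZeroDivisors]
        exact hne
      obtain ⟨q, hq, hle⟩ := (Ideal.subset_union_prime (f := fun q : Ideal Γ(X, V) => q) ⊤ ⊤
        (fun q hq _ _ => IsAssociatedPrime.isPrime (hfin.mem_toFinset.mp hq))).mp hsub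
      have hq' := hfin.mem_toFinset.mp hq
      exact hpass ((hpm.eq_of_le hq'.isPrime.ne_top hle) ▸ hq')
    have hfs : f ∈ Mero.regSub X V := MeroX.regSub_eq_nonZeroDivisors hV ▸ hfreg
    refine ⟨z, hzZ, (hVOU hzV).2, hzc, Mero.regGerm ⟨z, hzV⟩ ⟨f, hfs⟩, fun hu => ?_⟩
    exact (QCoh.mem_basicOpen_iff_notMem hV hzV f).1 ((X.mem_basicOpen f z hzV).2 hu) hfp
  choose x hxZ hxU hxc b hb using hpick
  let P : Set X := {y | ∃ Z, ∃ h : Z ∈ irreducibleComponents (X : Type u), x Z h = y}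
  have hP : P.Finite := by
    haveI := (NoetherianSpace.finite_irreducibleComponents (α := X)).to_subtype
    exact (Set.finite_range fun Z : irreducibleComponents (X : Type u) => x Z.1 Z.2).subset
      (by rintro _ ⟨Z, h, rfl⟩; exact ⟨⟨Z, h⟩, rfl⟩)
  have hrep : ∀ y ∈ P, ∃ c : Mero.regStalk X y, ¬ IsUnit (c : X.presheaf.stalk y) := by
    rintro _ ⟨Z, h, rfl⟩
    exact ⟨b Z h, hb Z h⟩
  choose c hc using hrep
  let g : ∀ y : X, Mero.Germ X y := fun y => if h : y ∈ P then regClass (c y h) else 1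
  have hg : ∀ y, g y ≠ 1 ↔ y ∈ P := fun y => ⟨fun h => by_contra fun hy => h (dif_neg hy), fun h => by
    show (if h : y ∈ P then regClass (c y h) else 1) ≠ 1
    rw [dif_pos h]; exact regClass_ne_one (hc y h)⟩
  obtain ⟨D, hD, heff⟩ := exists_effective hC g (hP.subset fun y hy => (hg y).1 hy)
    (fun y hy => dif_neg (by rintro ⟨Z, h, rfl⟩; exact hy (hxc Z h)))
    (fun y hy => ⟨c y ((hg y).1 hy), dif_pos _⟩)
  refine ⟨D, heff, fun y hy => ?_, fun Z hZ => ⟨x Z hZ, ?_, hxZ Z hZ⟩⟩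
  · change D.1 y ≠ 1 at hy
    rw [congrFun hD y] at hy
    obtain ⟨Z, h, rfl⟩ := (hg y).1 hy
    exact hxU Z h
  · show D.1 (x Z hZ) ≠ 1
    rw [congrFun hD]
    exact (hg _).2 ⟨Z, hZ, rfl⟩

end Groth.Agent.MeroCurveLib
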